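import Mathlib.Topology.Constructible
import Mathlib.Topology.LocallyClosed

/-!
# Very dense subsets and quasi-homeomorphisms on locally quasi-constructible sets
-/

set_option autoImplicit false

universe u

namespace Groth.Agent.VeryDense

open Topology

section LCClopen

variable {Y : Type u} [TopologicalSpace Y] {Z Z' : Set Y}

/-- A set decided near every point by a locally closed set through the point. -/
def LCClopen (Z : Set Y) : Prop :=
  ∀ y : Y, ∃ s : Set Y, IsLocallyClosed s ∧ y ∈ s ∧ (s ⊆ Z ∨ s ⊆ Zᶜ)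

theorem LCClopen.of_isOpen (h : IsOpen Z) : LCClopen Z := fun y => by
  by_cases hy : y ∈ Z
  · exact ⟨Z, h.isLocallyClosed, hy, .inl subset_rfl⟩
  · exact ⟨Zᶜ, h.isClosed_compl.isLocallyClosed, hy, .inr subset_rfl⟩

theorem LCClopen.compl (h : LCClopen Z) : LCClopen Zᶜ := fun y => by
  obtain ⟨s, hs, hy, h'⟩ := h y
  exact ⟨s, hs, hy, by rw [compl_compl]; exact h'.symm⟩

theorem LCClopen.union (h : LCClopen Z) (h' : LCClopen Z') : LCClopen (Z ∪ Z') := fun y => by
  obtain ⟨s, hs, hy, h1⟩ := h y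
  obtain ⟨s', hs', hy', h2⟩ := h' y
  rcases h1 with h1 | h1
  · exact ⟨s, hs, hy, .inl (h1.trans Set.subset_union_left)⟩
  rcases h2 with h2 | h2
  · exact ⟨s', hs', hy', .inl (h2.trans Set.subset_union_right)⟩
  exact ⟨s ∩ s', hs.inter hs', ⟨hy, hy'⟩, .inr fun a ha =>
    fun h => h.elim (h1 ha.1) (h2 ha.2)⟩

theorem LCClopen.inter (h : LCClopen Z) (h' : LCClopen Z') : LCClopen (Z ∩ Z') := by
  have := (h.compl.union h'.compl).compl
  rwa [Set.compl_union, compl_compl, compl_compl] at this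

theorem LCClopen.of_isLocallyClosed (h : IsLocallyClosed Z) : LCClopen Z := by
  obtain ⟨O, C, hO, hC, rfl⟩ := h
  exact (LCClopen.of_isOpen hO).inter (by simpa using (LCClopen.of_isOpen hC.isOpen_compl).compl)

theorem LCClopen.sUnion {T : Set (Set Y)} (hT : T.Finite) (h : ∀ t ∈ T, LCClopen t) : LCClopen (⋃₀ T) := by
  induction T, hT using Set.Finite.induction_on with
  | empty => rw [Set.sUnion_empty]; exact .of_isOpen isOpen_empty
  | @insert a S _ _ ih =>
    rw [Set.sUnion_insert]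
    exact (h a (Set.mem_insert a S)).union (ih fun t ht => h t (Set.mem_insert_of_mem a ht))

theorem LCClopen.of_local (h : ∀ y : Y, ∃ U : Set Y, IsOpen U ∧ y ∈ U ∧ LCClopen (U ∩ Z)) : LCClopen Z := fun y => by
  obtain ⟨U, hU, hy, hc⟩ := h y
  obtain ⟨s, hs, hys, h'⟩ := hc y
  refine ⟨U ∩ s, hU.isLocallyClosed.inter hs, ⟨hy, hys⟩, ?_⟩
  rcases h' with h' | h'
  · exact .inl fun a ha => (h' ha.2).2
  · exact .inr fun a ha haZ => h' ha.2 ⟨ha.1, haZ⟩

theorem LCClopen.of_quasiConstructible (h : ∃ T : Set (Set Y), T.Finite ∧ (∀ t ∈ T, IsLocallyClosed t) ∧ Z = ⋃₀ T) :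
    LCClopen Z := by
  obtain ⟨T, hT, hlc, rfl⟩ := h
  exact .sUnion hT fun t ht => .of_isLocallyClosed (hlc t ht)

theorem LCClopen.of_locallyQuasiConstructible (h : ∀ y : Y, ∃ U : Set Y, IsOpen U ∧ y ∈ U ∧
    ∃ T : Set (Set Y), T.Finite ∧ (∀ t ∈ T, IsLocallyClosed t) ∧ U ∩ Z = ⋃₀ T) : LCClopen Z :=
  .of_local fun y => by
    obtain ⟨U, hU, hy, h'⟩ := h y
    exact ⟨U, hU, hy, .of_quasiConstructible h'⟩

theorem LCClopen.of_isConstructible (h : IsConstructible Z) : LCClopen Z := by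
  induction h using IsConstructible.empty_union_induction with
  | open_retrocompact U hU _ => exact .of_isOpen hU
  | union s _ t _ hs ht => exact hs.union ht
  | compl s _ hs => exact hs.compl

theorem LCClopen.image_subtypeVal {U : Set Y} (hU : IsOpen U) {W : Set ↥U} (h : LCClopen W) :
    LCClopen (Subtype.val '' W) := fun y => by
  by_cases hy : y ∈ U
  · obtain ⟨s, ⟨O, C, hO, hC, rfl⟩, hys, h'⟩ := h ⟨y, hy⟩
    obtain ⟨C', hC', rfl⟩ := isClosed_induced_iff.1 hC
    refine ⟨Subtype.val '' O ∩ C', (hU.isOpenMap_subtype_val O hO).isLocallyClosed.inter hC'.isLocallyClosed,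
      ⟨⟨⟨y, hy⟩, hys.1, rfl⟩, hys.2⟩, ?_⟩
    rcases h' with h' | h'
    · left
      rintro _ ⟨⟨a, ha, rfl⟩, hc⟩
      exact ⟨a, h' ⟨ha, hc⟩, rfl⟩
    · right
      rintro _ ⟨⟨a, ha, rfl⟩, hc⟩ ⟨b, hb, e⟩
      exact h' ⟨ha, hc⟩ (Subtype.ext e ▸ hb)
  · exact ⟨Uᶜ, hU.isClosed_compl.isLocallyClosed, hy, .inr (Set.compl_subset_compl.2 fun _ ⟨a, _, e⟩ => e ▸ a.2)⟩

theorem LCClopen.of_isLocallyConstructible (h : IsLocallyConstructible Z) : LCClopen Z :=
  .of_local fun y => by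
    obtain ⟨U, hyU, hU, hc⟩ := h y
    refine ⟨U, hU, mem_of_mem_nhds hyU, ?_⟩
    have := (LCClopen.of_isConstructible hc).image_subtypeVal hU
    rwa [Subtype.image_preimage_coe] at this

/-- Two such sets with the same trace on a very dense subset coincide. -/
theorem LCClopen.eq_of_inter_eq {X₀ : Set Y}
    (hd : ∀ s : Set Y, IsLocallyClosed s → s.Nonempty → (s ∩ X₀).Nonempty)
    (h : LCClopen Z) (h' : LCClopen Z') (e : Z ∩ X₀ = Z' ∩ X₀) : Z = Z' := by
  ext y
  obtain ⟨s, hs, hys, h1⟩ := h y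
  obtain ⟨s', hs', hys', h2⟩ := h' y
  obtain ⟨a, ⟨has, has'⟩, haX⟩ := hd (s ∩ s') (hs.inter hs') ⟨y, hys, hys'⟩
  have ha : a ∈ Z ↔ a ∈ Z' := ⟨fun h => (e.le ⟨h, haX⟩).1, fun h => (e.ge ⟨h, haX⟩).1⟩
  rcases h1 with h1 | h1 <;> rcases h2 with h2 | h2
  · exact ⟨fun _ => h2 hys', fun _ => h1 hys⟩
  · exact absurd (ha.1 (h1 has)) (h2 has')
  · exact absurd (ha.2 (h2 has')) (h1 has)
  · exact ⟨fun h => absurd h (h1 hys), fun h => absurd h (h2 hys')⟩

end LCClopen

section QuasiHomeo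

variable {X Y : Type u} [TopologicalSpace X] [TopologicalSpace Y] {f : X → Y} {hf : Continuous f}

/-- Nonempty locally closed sets meet the range of a quasi-homeomorphism. -/
theorem inter_range_nonempty (hq : Function.Bijective (fun U : TopologicalSpace.Opens Y =>
    (⟨f ⁻¹' (U : Set Y), U.isOpen.preimage hf⟩ : TopologicalSpace.Opens X)))
    (s : Set Y) (hs : IsLocallyClosed s) (hne : s.Nonempty) : (s ∩ Set.range f).Nonempty := by
  obtain ⟨O, C, hO, hC, rfl⟩ := hs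
  obtain ⟨y, hyO, hyC⟩ := hne
  by_contra hc
  have := @hq.1 ⟨O, hO⟩ ⟨O ∩ Cᶜ, hO.inter hC.isOpen_compl⟩ (TopologicalSpace.Opens.ext (Set.ext fun x =>
    ⟨fun hx => ⟨hx, fun hxC => hc ⟨f x, ⟨hx, hxC⟩, x, rfl⟩⟩, fun hx => hx.1⟩))
  exact ((TopologicalSpace.Opens.ext_iff.1 this).le hyO).2 hyC

theorem preimage_injective (hq : Function.Bijective (fun U : TopologicalSpace.Opens Y =>
    (⟨f ⁻¹' (U : Set Y), U.isOpen.preimage hf⟩ : TopologicalSpace.Opens X)))
    {Z Z' : Set Y} (h : LCClopen Z) (h' : LCClopen Z') (e : f ⁻¹' Z = f ⁻¹' Z') : Z = Z' :=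
  h.eq_of_inter_eq (inter_range_nonempty (hf := hf) hq) h' (by
    rw [← Set.image_preimage_eq_inter_range, e, Set.image_preimage_eq_inter_range])

theorem exists_open (hq : Function.Bijective (fun U : TopologicalSpace.Opens Y =>
    (⟨f ⁻¹' (U : Set Y), U.isOpen.preimage hf⟩ : TopologicalSpace.Opens X)))
    {V : Set X} (hV : IsOpen V) : ∃ U : Set Y, IsOpen U ∧ f ⁻¹' U = V := by
  obtain ⟨U, hU⟩ := hq.2 ⟨V, hV⟩
  exact ⟨U, U.isOpen, congrArg SetLike.coe hU⟩

theorem isCompact_preimage_iff (hq : Function.Bijective (fun U : TopologicalSpace.Opens Y =>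
    (⟨f ⁻¹' (U : Set Y), U.isOpen.preimage hf⟩ : TopologicalSpace.Opens X)))
    {U : Set Y} (hU : IsOpen U) : IsCompact (f ⁻¹' U) ↔ IsCompact U := by
  refine ⟨fun h => isCompact_of_finite_subcover fun {ι} W hW hcov => ?_,
    fun h => isCompact_of_finite_subcover fun {ι} W hW hcov => ?_⟩
  · obtain ⟨t, ht⟩ := h.elim_finite_subcover (fun i => f ⁻¹' W i) (fun i => (hW i).preimage hf)
      (by rw [← Set.preimage_iUnion]; exact Set.preimage_mono hcov)
    refine ⟨t, Set.inter_eq_left.1 (preimage_injective (hf := hf) hq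
      (.of_isOpen (hU.inter (isOpen_biUnion fun i _ => hW i))) (.of_isOpen hU) ?_)⟩
    rw [Set.preimage_inter, Set.inter_eq_left, Set.preimage_iUnion₂]
    exact ht
  · choose W' hW' e using fun i => exists_open (hf := hf) hq (hW i)
    obtain ⟨t, ht⟩ := h.elim_finite_subcover W' hW' (Set.inter_eq_left.1 (preimage_injective (hf := hf) hq
      (.of_isOpen (hU.inter (isOpen_iUnion hW'))) (.of_isOpen hU) (by
        rw [Set.preimage_inter, Set.inter_eq_left, Set.preimage_iUnion]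
        simpa only [e] using hcov)))
    refine ⟨t, fun x hx => ?_⟩
    obtain ⟨i, hi, hxi⟩ := Set.mem_iUnion₂.1 (ht hx)
    exact Set.mem_iUnion₂.2 ⟨i, hi, (e i).le hxi⟩

theorem isRetrocompact_preimage_iff (hq : Function.Bijective (fun U : TopologicalSpace.Opens Y =>
    (⟨f ⁻¹' (U : Set Y), U.isOpen.preimage hf⟩ : TopologicalSpace.Opens X)))
    {U : Set Y} (hU : IsOpen U) : IsRetrocompact (f ⁻¹' U) ↔ IsRetrocompact U := by
  refine ⟨fun h W hWc hW => ?_, fun h V hVc hV => ?_⟩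
  · rw [← isCompact_preimage_iff (hf := hf) hq (hU.inter hW), Set.preimage_inter]
    exact h ((isCompact_preimage_iff (hf := hf) hq hW).2 hWc) (hW.preimage hf)
  · obtain ⟨W, hW, rfl⟩ := exists_open (hf := hf) hq hV
    rw [← Set.preimage_inter, isCompact_preimage_iff (hf := hf) hq (hU.inter hW)]
    exact h ((isCompact_preimage_iff (hf := hf) hq hW).1 hVc) hW

theorem isConstructible_preimage (hq : Function.Bijective (fun U : TopologicalSpace.Opens Y =>
    (⟨f ⁻¹' (U : Set Y), U.isOpen.preimage hf⟩ : TopologicalSpace.Opens X)))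
    {Z : Set Y} (h : IsConstructible Z) : IsConstructible (f ⁻¹' Z) :=
  h.preimage hf fun _ hU hr => (isRetrocompact_preimage_iff (hf := hf) hq hU).2 hr

theorem exists_isConstructible (hq : Function.Bijective (fun U : TopologicalSpace.Opens Y =>
    (⟨f ⁻¹' (U : Set Y), U.isOpen.preimage hf⟩ : TopologicalSpace.Opens X)))
    {W : Set X} (h : IsConstructible W) : ∃ Z : Set Y, IsConstructible Z ∧ f ⁻¹' Z = W := by
  induction h using IsConstructible.empty_union_induction with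
  | open_retrocompact U hU hr =>
    obtain ⟨U', hU', rfl⟩ := exists_open (hf := hf) hq hU
    exact ⟨U', ((isRetrocompact_preimage_iff (hf := hf) hq hU').1 hr).isConstructible hU', rfl⟩
  | union s _ t _ hs ht =>
    obtain ⟨a, ha, rfl⟩ := hs
    obtain ⟨b, hb, rfl⟩ := ht
    exact ⟨a ∪ b, ha.union hb, rfl⟩
  | compl s _ hs =>
    obtain ⟨a, ha, rfl⟩ := hs
    exact ⟨aᶜ, ha.compl, rfl⟩

theorem restrictPreimage_bijective (hq : Function.Bijective (fun U : TopologicalSpace.Opens Y =>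
    (⟨f ⁻¹' (U : Set Y), U.isOpen.preimage hf⟩ : TopologicalSpace.Opens X)))
    {U : Set Y} (hU : IsOpen U) : Function.Bijective (fun W : TopologicalSpace.Opens ↥U =>
      (⟨U.restrictPreimage f ⁻¹' (W : Set ↥U), W.isOpen.preimage hf.restrictPreimage⟩ :
        TopologicalSpace.Opens ↥(f ⁻¹' U))) := by
  refine ⟨fun W W' e => ?_, fun V => ?_⟩
  · have e' := congrArg SetLike.coe e
    refine TopologicalSpace.Opens.ext (Set.image_injective.2 Subtype.val_injective (preimage_injective (hf := hf) hq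
      (.of_isOpen (hU.isOpenMap_subtype_val _ W.isOpen)) (.of_isOpen (hU.isOpenMap_subtype_val _ W'.isOpen)) ?_))
    ext x
    constructor
    · rintro ⟨⟨_, hx⟩, h, rfl⟩
      exact ⟨⟨f x, hx⟩, (Set.ext_iff.1 e' ⟨x, hx⟩).1 h, rfl⟩
    · rintro ⟨⟨_, hx⟩, h, rfl⟩
      exact ⟨⟨f x, hx⟩, (Set.ext_iff.1 e' ⟨x, hx⟩).2 h, rfl⟩
  · obtain ⟨V', hV', e⟩ := isOpen_induced_iff.1 V.isOpen
    obtain ⟨W, hW, rfl⟩ := exists_open (hf := hf) hq hV'
    exact ⟨⟨Subtype.val ⁻¹' W, hW.preimage continuous_subtype_val⟩, TopologicalSpace.Opens.ext e⟩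

end QuasiHomeo

end Groth.Agent.VeryDense
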